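import Groth.Agent.L28.DeltaFlat.Trdeg
import Mathlib.AlgebraicGeometry.PullbackCarrier
import Mathlib.AlgebraicGeometry.Morphisms.Preimmersion
import Mathlib.RingTheory.Spectrum.Prime.Basic

/-!
# Transcendence degrees of residue fields of a fibre product
-/

set_option autoImplicit false
universe u
open CategoryTheory CategoryTheory.Limits AlgebraicGeometry
open scoped TensorProduct

namespace Groth.Agent.L28.DeltaFlat

open AlgebraicGeometry.Scheme.Pullback

variable {X Y S : Scheme.{u}} {f : X ⟶ S} {g : Y ⟶ S}

theorem epi_ofPointTensor (t : ↑(pullback f g)) : Epi (ofPointTensor t) := by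
  have hm : Mono (Spec.map (ofPointTensor t) ≫ (Triplet.ofPoint t).SpecTensorTo) := by
    rw [ofPointTensor_SpecTensorTo]; infer_instance
  have : Mono (Spec.map (ofPointTensor t)) :=
    mono_of_mono _ (Triplet.ofPoint t).SpecTensorTo
  refine ⟨fun {Z} a b hab => ?_⟩
  apply Spec.map_injective
  rw [← cancel_mono (Spec.map (ofPointTensor t)), ← Spec.map_comp, ← Spec.map_comp, hab]

theorem closure_residueField_eq_top (t : ↑(pullback f g)) :
    Subfield.closure (Set.range ((pullback.fst f g).residueFieldMap t).hom ∪
      Set.range ((pullback.snd f g).residueFieldMap t).hom) = ⊤ := by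
  set F : Subfield ((pullback f g).residueField t) :=
    Subfield.closure (Set.range ((pullback.fst f g).residueFieldMap t).hom ∪
      Set.range ((pullback.snd f g).residueFieldMap t).hom) with hF
  let b' : X.residueField (Triplet.ofPoint t).x ⟶ CommRingCat.of F :=
    CommRingCat.ofHom (((pullback.fst f g).residueFieldMap t).hom.codRestrict F
      (fun x => Subfield.subset_closure (Or.inl ⟨x, rfl⟩)))
  let d' : Y.residueField (Triplet.ofPoint t).y ⟶ CommRingCat.of F :=
    CommRingCat.ofHom (((pullback.snd f g).residueFieldMap t).hom.codRestrict F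
      (fun x => Subfield.subset_closure (Or.inr ⟨x, rfl⟩)))
  let incl : CommRingCat.of F ⟶ (pullback f g).residueField t := CommRingCat.ofHom F.subtype
  have hb : b' ≫ incl = (pullback.fst f g).residueFieldMap t := rfl
  have hd : d' ≫ incl = (pullback.snd f g).residueFieldMap t := rfl
  have : Mono incl := ConcreteCategory.mono_of_injective _ Subtype.val_injective
  let o' : (Triplet.ofPoint t).tensor ⟶ CommRingCat.of F := pushout.desc b' d' (by
    refine (cancel_mono incl).mp ?_
    refine (Category.assoc _ _ _).trans (Eq.trans ?_ (Category.assoc _ _ _).symm)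
    exact (((congrArg (_ ≫ ·) hb).trans (residueFieldCongr_inv_residueFieldMap_ofPoint t))).trans
      (congrArg (_ ≫ ·) hd).symm)
  have ho : o' ≫ incl = ofPointTensor t :=
    pushout.hom_ext
      (((Category.assoc _ _ _).symm.trans (congrArg (· ≫ incl) (pushout.inl_desc _ _ _))).trans
        (hb.trans (pushout.inl_desc _ _ _).symm))
      (((Category.assoc _ _ _).symm.trans (congrArg (· ≫ incl) (pushout.inr_desc _ _ _))).trans
        (hd.trans (pushout.inr_desc _ _ _).symm))
  have : Epi (o' ≫ incl) := ho.symm ▸ epi_ofPointTensor t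
  have : Epi incl := epi_of_epi o' incl
  let : Algebra F ((pullback f g).residueField t) := F.subtype.toAlgebra
  have hepi : Algebra.IsEpi F ((pullback f g).residueField t) :=
    CommRingCat.epi_iff_epi.mp (inferInstanceAs (Epi incl))
  rw [← top_le_iff]
  rintro x -
  obtain ⟨y, rfl⟩ := surjective_algebraMap_of_isEpi (F := F) x
  exact y.2

theorem trdeg_residueField_le (t : ↑(pullback f g)) :
    @Algebra.trdeg (Y.residueField ((pullback.snd f g).base t)) ((pullback f g).residueField t)
        _ _ ((pullback.snd f g).residueFieldMap t).hom.toAlgebra ≤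
      @Algebra.trdeg (S.residueField (f.base ((pullback.fst f g).base t)))
        (X.residueField ((pullback.fst f g).base t)) _ _
        (f.residueFieldMap ((pullback.fst f g).base t)).hom.toAlgebra := by
  let T := Triplet.ofPoint t
  let : Algebra (Y.residueField T.y) ((pullback f g).residueField t) :=
    ((pullback.snd f g).residueFieldMap t).hom.toAlgebra
  let : Algebra (S.residueField T.s) (X.residueField T.x) := (f.residueFieldMap T.x).hom.toAlgebra
  change @Algebra.trdeg (Y.residueField T.y) ((pullback f g).residueField t) _ _ _ ≤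
    @Algebra.trdeg (S.residueField T.s) (X.residueField T.x) _ _ _
  refine trdeg_compositum_le (k := S.residueField T.s) (K := X.residueField T.x)
    (L := Y.residueField T.y) ((pullback.fst f g).residueFieldMap t).hom
    ((S.residueFieldCongr T.hy).inv ≫ g.residueFieldMap T.y).hom ?_
    (closure_residueField_eq_top t)
  have e1 : f.residueFieldMap T.x ≫ (pullback.fst f g).residueFieldMap t =
      ((S.residueFieldCongr T.hy).inv ≫ g.residueFieldMap T.y) ≫
        (pullback.snd f g).residueFieldMap t :=
    (congrArg (· ≫ (pullback.fst f g).residueFieldMap t)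
      (Category.id_comp (f.residueFieldMap T.x))).symm.trans
        (residueFieldCongr_inv_residueFieldMap_ofPoint t)
  exact congrArg CommRingCat.Hom.hom e1

theorem algebraicIndependent_of_ker_le {L R M ι : Type u} [Field L] [CommRing R] [Field M]
    [Algebra L M] (o : R →+* M) (j : L →+* R) (i : ι → R) (p : Ideal R)
    (hker : ∀ z, o z = 0 → z ∈ p) (hp : ∀ P, MvPolynomial.eval₂ j i P ∈ p → P = 0)
    (hj : o.comp j = algebraMap L M) : AlgebraicIndependent L (o ∘ i) := by
  rw [algebraicIndependent_iff]
  intro P hP0
  refine hp P (hker _ ?_)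
  rw [← MvPolynomial.coe_eval₂Hom, MvPolynomial.map_eval₂Hom, MvPolynomial.coe_eval₂Hom, hj]
  rw [← hP0, MvPolynomial.aeval_def]
  rfl

/-- The property used to select a point of the fibre product. -/
def Good (a : Σ T : Triplet f g, ↑(Spec T.tensor)) : Prop :=
  ∃ B : Set (X.residueField a.1.x),
    @IsTranscendenceBasis _ (S.residueField (f.base a.1.x)) (X.residueField a.1.x) _ _
      (f.residueFieldMap a.1.x).hom.toAlgebra ((↑) : B → X.residueField a.1.x) ∧
    ∀ P : MvPolynomial B (Y.residueField a.1.y),
      MvPolynomial.eval₂ a.1.tensorInr.hom (a.1.tensorInl.hom ∘ Subtype.val) P ∈ a.2.asIdeal → P = 0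

theorem trdeg_le_of_good (t : ↑(pullback f g))
    (hg : Good (f := f) (g := g) ⟨Triplet.ofPoint t, SpecOfPoint t⟩) :
    @Algebra.trdeg (S.residueField (f.base ((pullback.fst f g).base t)))
        (X.residueField ((pullback.fst f g).base t)) _ _
        (f.residueFieldMap ((pullback.fst f g).base t)).hom.toAlgebra ≤
      @Algebra.trdeg (Y.residueField ((pullback.snd f g).base t)) ((pullback f g).residueField t)
        _ _ ((pullback.snd f g).residueFieldMap t).hom.toAlgebra := by
  obtain ⟨B, hB, hP⟩ := hg
  let T := Triplet.ofPoint t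
  let : Algebra (S.residueField (f.base T.x)) (X.residueField T.x) :=
    (f.residueFieldMap T.x).hom.toAlgebra
  let : Algebra (Y.residueField T.y) ((pullback f g).residueField t) :=
    ((pullback.snd f g).residueFieldMap t).hom.toAlgebra
  change @Algebra.trdeg (S.residueField (f.base T.x)) (X.residueField T.x) _ _ _ ≤
    @Algebra.trdeg (Y.residueField T.y) ((pullback f g).residueField t) _ _ _
  have hind : AlgebraicIndependent (Y.residueField T.y)
      ((ofPointTensor t).hom ∘ (T.tensorInl.hom ∘ (Subtype.val : B → X.residueField T.x))) :=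
    algebraicIndependent_of_ker_le (ofPointTensor t).hom T.tensorInr.hom _ (SpecOfPoint t).asIdeal
      (fun z hz => by
        change (ofPointTensor t).hom z ∈ (⊥ : PrimeSpectrum ((pullback f g).residueField t)).asIdeal
        rw [hz]
        exact Ideal.zero_mem _)
      hP (congrArg CommRingCat.Hom.hom
        (show T.tensorInr ≫ ofPointTensor t = _ from pushout.inr_desc _ _ _))
  rw [← hB.cardinalMk_eq_trdeg]
  exact hind.cardinalMk_le_trdeg

theorem exists_point_trdeg_eq (x : X) (y : Y) (h : f.base x = g.base y) :
    ∃ t : ↑(pullback f g), (pullback.fst f g).base t = x ∧ (pullback.snd f g).base t = y ∧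
      @Algebra.trdeg (Y.residueField ((pullback.snd f g).base t)) ((pullback f g).residueField t)
          _ _ ((pullback.snd f g).residueFieldMap t).hom.toAlgebra =
        @Algebra.trdeg (S.residueField (f.base ((pullback.fst f g).base t)))
          (X.residueField ((pullback.fst f g).base t)) _ _
          (f.residueFieldMap ((pullback.fst f g).base t)).hom.toAlgebra := by
  let T : Triplet f g := ⟨x, y, f.base x, rfl, h.symm⟩
  let : Algebra (S.residueField T.s) (X.residueField T.x) := (f.residueFieldMap T.x).hom.toAlgebra
  let : Algebra (S.residueField T.s) (Y.residueField T.y) :=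
    ((S.residueFieldCongr T.hy).inv ≫ g.residueFieldMap T.y).hom.toAlgebra
  let incl : Y.residueField T.y ⟶
      CommRingCat.of (↑(Y.residueField T.y) ⊗[S.residueField T.s] ↑(X.residueField T.x)) :=
    CommRingCat.ofHom (Algebra.TensorProduct.includeLeftRingHom
      (R := ↑(S.residueField T.s)) (A := ↑(Y.residueField T.y)) (B := ↑(X.residueField T.x)))
  let incr : X.residueField T.x ⟶
      CommRingCat.of (↑(Y.residueField T.y) ⊗[S.residueField T.s] ↑(X.residueField T.x)) :=
    CommRingCat.ofHom (Algebra.TensorProduct.includeRight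
      (R := ↑(S.residueField T.s)) (A := ↑(Y.residueField T.y))
      (B := ↑(X.residueField T.x))).toRingHom
  have hc : ((S.residueFieldCongr T.hx).inv ≫ f.residueFieldMap T.x) ≫ incr =
      ((S.residueFieldCongr T.hy).inv ≫ g.residueFieldMap T.y) ≫ incl := by
    refine (congrArg (· ≫ incr) (Category.id_comp (f.residueFieldMap T.x))).trans ?_
    ext r
    exact (Algebra.TensorProduct.includeRight (R := ↑(S.residueField T.s))
      (A := ↑(Y.residueField T.y)) (B := ↑(X.residueField T.x))).commutes r
  let σ : T.tensor ⟶
      CommRingCat.of (↑(Y.residueField T.y) ⊗[S.residueField T.s] ↑(X.residueField T.x)) :=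
    pushout.desc incr incl hc
  obtain ⟨B, hB⟩ := exists_isTranscendenceBasis (S.residueField T.s) (X.residueField T.x)
  obtain ⟨p, hp, hP⟩ := exists_prime_algebraicIndependent (k := S.residueField T.s)
    T.tensorInl.hom T.tensorInr.hom σ.hom
    (congrArg CommRingCat.Hom.hom (show T.tensorInl ≫ σ = incr from pushout.inl_desc _ _ _))
    (congrArg CommRingCat.Hom.hom (show T.tensorInr ≫ σ = incl from pushout.inr_desc _ _ _)) _ hB.1
  let q : ↑(Spec T.tensor) := ⟨p, hp⟩
  have hgood : Good (f := f) (g := g) ⟨T, q⟩ := ⟨B, hB, hP⟩
  let t := carrierEquiv.symm (⟨T, q⟩ : Σ T : Triplet f g, ↑(Spec T.tensor))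
  refine ⟨t, carrierEquiv_symm_fst T q, carrierEquiv_symm_snd T q,
    le_antisymm (trdeg_residueField_le t) (trdeg_le_of_good t ?_)⟩
  rw [← carrierEquiv.apply_symm_apply (⟨T, q⟩ : Σ T : Triplet f g, ↑(Spec T.tensor))] at hgood
  exact hgood

end Groth.Agent.L28.DeltaFlat
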