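import Mathlib.RingTheory.Ideal.KrullsHeightTheorem
import Mathlib.RingTheory.Ideal.GoingDown
import Mathlib.RingTheory.Flat.FaithfullyFlat.Algebra
import Mathlib.RingTheory.KrullDimension.NonZeroDivisors
import Mathlib.RingTheory.Ideal.Quotient.Noetherian

/-!
# Dimensions of quotients along a flat local extension with zero-dimensional closed fibre
-/

set_option autoImplicit false
universe u

namespace Groth.Agent.L28.DeltaFlat

variable {A A' : Type u} [CommRing A] [CommRing A'] [Algebra A A'] [IsLocalRing A] [IsLocalRing A']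

theorem comap_maximalIdeal [Module.FaithfullyFlat A A']
    (hfib : ∀ q : Ideal A', ∀ _ : q.IsPrime,
      q.comap (algebraMap A A') = IsLocalRing.maximalIdeal A → q = IsLocalRing.maximalIdeal A') :
    (IsLocalRing.maximalIdeal A').comap (algebraMap A A') = IsLocalRing.maximalIdeal A := by
  obtain ⟨⟨q, hq⟩, h⟩ := PrimeSpectrum.comap_surjective_of_faithfullyFlat (A := A) (B := A')
    (IsLocalRing.closedPoint A)
  have h' : q.comap (algebraMap A A') = IsLocalRing.maximalIdeal A :=
    congrArg PrimeSpectrum.asIdeal h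
  rw [← hfib q hq h', h']

theorem comap_maximalIdeal_of_surjective {R S : Type u} [CommRing R] [CommRing S] [IsLocalRing R]
    [IsLocalRing S] (π : R →+* S) (hπ : Function.Surjective π) :
    (IsLocalRing.maximalIdeal S).comap π = IsLocalRing.maximalIdeal R := by
  have := Ideal.comap_isMaximal_of_surjective π hπ (K := IsLocalRing.maximalIdeal S)
  exact IsLocalRing.eq_maximalIdeal this

theorem ringKrullDim_quotient_comap_le [Module.FaithfullyFlat A A'] [IsNoetherianRing A]
    [IsNoetherianRing A']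
    (hfib : ∀ q : Ideal A', ∀ _ : q.IsPrime,
      q.comap (algebraMap A A') = IsLocalRing.maximalIdeal A → q = IsLocalRing.maximalIdeal A')
    (P' : Ideal A') [P'.IsPrime] :
    ringKrullDim (A' ⧸ P') ≤ ringKrullDim (A ⧸ P'.comap (algebraMap A A')) := by
  set p := P'.comap (algebraMap A A') with hp
  have : p.IsPrime := Ideal.IsPrime.comap _
  let : Algebra (A ⧸ p) (A' ⧸ P') :=
    (Ideal.quotientMap P' (algebraMap A A') le_rfl).toAlgebra
  have : IsLocalRing (A ⧸ p) :=
    IsLocalRing.of_surjective' (Ideal.Quotient.mk p) Ideal.Quotient.mk_surjective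
  have : IsLocalRing (A' ⧸ P') :=
    IsLocalRing.of_surjective' (Ideal.Quotient.mk P') Ideal.Quotient.mk_surjective
  set mQ := IsLocalRing.maximalIdeal (A ⧸ p)
  set mQ' := IsLocalRing.maximalIdeal (A' ⧸ P')
  have hmk : mQ.comap (Ideal.Quotient.mk p) = IsLocalRing.maximalIdeal A :=
    comap_maximalIdeal_of_surjective _ Ideal.Quotient.mk_surjective
  have hmk' : mQ'.comap (Ideal.Quotient.mk P') = IsLocalRing.maximalIdeal A' :=
    comap_maximalIdeal_of_surjective _ Ideal.Quotient.mk_surjective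
  have hcomp : (algebraMap (A ⧸ p) (A' ⧸ P')).comp (Ideal.Quotient.mk p) =
      (Ideal.Quotient.mk P').comp (algebraMap A A') :=
    Ideal.quotientMap_comp_mk le_rfl
  have hover : mQ'.comap (algebraMap (A ⧸ p) (A' ⧸ P')) = mQ := by
    apply Ideal.comap_injective_of_surjective _ Ideal.Quotient.mk_surjective
    rw [Ideal.comap_comap, hcomp, ← Ideal.comap_comap, hmk', comap_maximalIdeal hfib, hmk]
  have : mQ'.LiesOver mQ := ⟨hover.symm⟩
  have hle : mQ.map (algebraMap (A ⧸ p) (A' ⧸ P')) ≤ mQ' :=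
    Ideal.map_le_iff_le_comap.mpr hover.ge
  have : (mQ'.map (Ideal.Quotient.mk (mQ.map (algebraMap (A ⧸ p) (A' ⧸ P'))))).IsPrime :=
    Ideal.map_isPrime_of_surjective Ideal.Quotient.mk_surjective (by rwa [Ideal.mk_ker])
  have h0 : (mQ'.map (Ideal.Quotient.mk (mQ.map (algebraMap (A ⧸ p) (A' ⧸ P'))))).height = 0 := by
    set π := Ideal.Quotient.mk (mQ.map (algebraMap (A ⧸ p) (A' ⧸ P')))
    rw [Ideal.height_eq_zero_iff, minimalPrimes_eq_minimals]
    refine ⟨inferInstance, fun Q hQ _ => ?_⟩
    have : Q.IsPrime := hQ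
    suffices Q.comap π = mQ' by
      rw [← this, Ideal.map_comap_of_surjective π Ideal.Quotient.mk_surjective]
    apply Ideal.comap_injective_of_surjective _ (Ideal.Quotient.mk_surjective (I := P'))
    rw [hmk']
    refine hfib _ (Ideal.IsPrime.comap _) ?_
    have hge : mQ ≤ (Q.comap π).comap (algebraMap (A ⧸ p) (A' ⧸ P')) := fun x hx => by
      rw [Ideal.mem_comap, Ideal.mem_comap]
      rw [show π (algebraMap (A ⧸ p) (A' ⧸ P') x) = 0 from
        Ideal.Quotient.eq_zero_iff_mem.mpr (Ideal.mem_map_of_mem _ hx)]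
      exact Q.zero_mem
    rw [Ideal.comap_comap, ← hcomp, ← Ideal.comap_comap, ← hmk]
    congr 1
    exact ((IsLocalRing.maximalIdeal.isMaximal _).eq_of_le
      (Ideal.IsPrime.ne_top (Ideal.IsPrime.comap _)) hge).symm
  rw [← IsLocalRing.maximalIdeal_height_eq_ringKrullDim,
    ← IsLocalRing.maximalIdeal_height_eq_ringKrullDim]
  have := Ideal.height_le_height_add_of_liesOver mQ mQ'
  rw [h0, add_zero] at this
  exact WithBot.coe_le_coe.mpr this

theorem exists_ringKrullDim_quotient_eq [Module.FaithfullyFlat A A'] [IsNoetherianRing A]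
    [IsNoetherianRing A']
    (hfib : ∀ q : Ideal A', ∀ _ : q.IsPrime,
      q.comap (algebraMap A A') = IsLocalRing.maximalIdeal A → q = IsLocalRing.maximalIdeal A')
    (p : Ideal A) [p.IsPrime] :
    ∃ (P' : Ideal A') (_ : P'.IsPrime), P'.comap (algebraMap A A') = p ∧
      ringKrullDim (A' ⧸ P') = ringKrullDim (A ⧸ p) := by
  have : Nonempty (PrimeSpectrum (A ⧸ p)) := inferInstance
  have : IsLocalRing (A ⧸ p) :=
    IsLocalRing.of_surjective' (Ideal.Quotient.mk p) Ideal.Quotient.mk_surjective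
  have : FiniteRingKrullDim (A ⧸ p) := inferInstance
  obtain ⟨l0, hl0⟩ : ∃ l : LTSeries (PrimeSpectrum (A ⧸ p)),
      (l.length : WithBot ℕ∞) = ringKrullDim (A ⧸ p) :=
    ⟨LTSeries.longestOf _, (Order.krullDim_eq_length_of_finiteDimensionalOrder).symm⟩
  let lc := l0.map (PrimeSpectrum.comap (Ideal.Quotient.mk p))
    (RingHom.strictMono_comap_of_surjective Ideal.Quotient.mk_surjective)
  have hlast : lc.last.asIdeal ≤ IsLocalRing.maximalIdeal A :=
    IsLocalRing.le_maximalIdeal lc.last.2.ne_top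
  have : (IsLocalRing.maximalIdeal A').LiesOver (IsLocalRing.maximalIdeal A) :=
    ⟨(comap_maximalIdeal hfib).symm⟩
  obtain ⟨Q, -, hQp, hQ⟩ := Ideal.exists_ideal_le_liesOver_of_le
    (IsLocalRing.maximalIdeal A') (p := lc.last.asIdeal) (q := IsLocalRing.maximalIdeal A) hlast
  obtain ⟨L, hlen, -, hmap⟩ := Ideal.exists_ltSeries_of_hasGoingDown lc Q
  have hhead : PrimeSpectrum.comap (algebraMap A A') L.head = lc.head := by
    rw [← L.toList_getElem_zero_eq_head, ← lc.toList_getElem_zero_eq_head,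
      List.getElem_map_rev (PrimeSpectrum.comap (algebraMap A A')),
      List.getElem_of_eq hmap]
  have hbot : l0.head.asIdeal = ⊥ := by
    by_contra hne
    have hlt : (⟨⊥, Ideal.isPrime_bot⟩ : PrimeSpectrum (A ⧸ p)) < l0.head :=
      lt_of_le_of_ne (bot_le (a := l0.head.asIdeal))
        (fun e => hne (congrArg PrimeSpectrum.asIdeal e).symm)
    have := Order.LTSeries.length_le_krullDim (l0.cons ⟨⊥, Ideal.isPrime_bot⟩ hlt)
    rw [RelSeries.cons_length] at this
    change _ ≤ ringKrullDim (A ⧸ p) at this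
    rw [← hl0] at this
    have := WithBot.coe_le_coe.mp this
    norm_cast at this
    omega
  have hheadp : lc.head.asIdeal = p := by
    change l0.head.asIdeal.comap (Ideal.Quotient.mk p) = p
    rw [hbot, ← RingHom.ker_eq_comap_bot, Ideal.mk_ker]
  refine ⟨L.head.asIdeal, L.head.2, ?_, le_antisymm ?_ ?_⟩
  · rw [← hheadp, ← hhead]; rfl
  · have := ringKrullDim_quotient_comap_le hfib L.head.asIdeal
    have he : L.head.asIdeal.comap (algebraMap A A') = p := by rw [← hheadp, ← hhead]; rfl
    rwa [he] at this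
  · rw [← hl0, ringKrullDim_quotient]
    let L' : LTSeries (PrimeSpectrum.zeroLocus (R := A') L.head.asIdeal) :=
      LTSeries.mk L.length (fun i => ⟨L i, L.head_le i⟩) L.strictMono
    refine le_trans (le_of_eq ?_) (Order.LTSeries.length_le_krullDim L')
    exact congrArg (fun n : ℕ => ((n : ℕ∞) : WithBot ℕ∞)) (hlen.trans rfl).symm

end Groth.Agent.L28.DeltaFlat
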