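import Mathlib.RingTheory.AlgebraicIndependent.TranscendenceBasis
import Mathlib.FieldTheory.IntermediateField.Adjoin.Basic
import Mathlib.RingTheory.TensorProduct.MvPolynomial
import Mathlib.RingTheory.Flat.Basic
import Mathlib.Algebra.Algebra.Epi
import Mathlib.Algebra.Category.Ring.Epi
import Mathlib.LinearAlgebra.Dual.Lemmas

/-!
# Transcendence degree of a compositum and of a suitable component of a tensor product
-/

set_option autoImplicit false
universe u
open scoped TensorProduct

namespace Groth.Agent.L28.DeltaFlat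

/-- If `M` is generated as a field by the images of `K` and `L`, then
`trdeg_L M ≤ trdeg_k K`. -/
theorem trdeg_compositum_le {k K L M : Type u} [Field k] [Field K] [Field L] [Field M]
    [Algebra k K] [Algebra L M] (b : K →+* M) (c : k →+* L)
    (h : b.comp (algebraMap k K) = (algebraMap L M).comp c)
    (hgen : Subfield.closure (Set.range b ∪ Set.range (algebraMap L M)) = ⊤) :
    Algebra.trdeg L M ≤ Algebra.trdeg k K := by
  obtain ⟨s, hs⟩ := exists_isTranscendenceBasis k K
  let S : Set M := b '' s
  let RB := Algebra.adjoin k s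
  let RS := Algebra.adjoin L S
  have hmem : ∀ z ∈ RB, b z ∈ RS := by
    intro z hz
    induction hz using Algebra.adjoin_induction with
    | mem z hz => exact Algebra.subset_adjoin ⟨z, hz, rfl⟩
    | algebraMap r =>
      rw [← RingHom.comp_apply, h, RingHom.comp_apply]
      exact Subalgebra.algebraMap_mem _ _
    | add x y _ _ hx hy => rw [map_add]; exact add_mem hx hy
    | mul x y _ _ hx hy => rw [map_mul]; exact mul_mem hx hy
  let φ : RB →+* RS :=
    { toFun := fun z => ⟨b z, hmem z z.2⟩
      map_one' := Subtype.ext (map_one b)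
      map_zero' := Subtype.ext (map_zero b)
      map_mul' := fun x y => Subtype.ext (map_mul b x.1 y.1)
      map_add' := fun x y => Subtype.ext (map_add b x.1 y.1) }
  have hφ : Function.Injective φ := fun x y e =>
    Subtype.ext (b.injective (congrArg Subtype.val e))
  have h' : Algebra.IsAlgebraic (Algebra.adjoin k (Set.range (Subtype.val : s → K))) K :=
    hs.isAlgebraic
  have : Algebra.IsAlgebraic RB K := by
    rw [Subtype.range_coe] at h'
    exact h'
  have hb : ∀ x : K, IsAlgebraic RS (b x) := fun x => by
    obtain ⟨P, hP0, hP⟩ := Algebra.IsAlgebraic.isAlgebraic (R := RB) x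
    refine ⟨P.map φ, (Polynomial.map_ne_zero_iff hφ).mpr hP0, ?_⟩
    rw [Polynomial.aeval_def, Polynomial.eval₂_map]
    have hc : (algebraMap RS M).comp φ = b.comp (algebraMap RB K) := RingHom.ext fun z => rfl
    rw [hc, ← Polynomial.hom_eval₂, ← Polynomial.aeval_def, hP, map_zero]
  let C : Subalgebra RS M := Subalgebra.algebraicClosure RS M
  let CF : Subfield M :=
    { C.toSubring with
      inv_mem' := fun x hx => IsAlgebraic.inv hx }
  have htop : CF = ⊤ := by
    rw [← top_le_iff, ← hgen, Subfield.closure_le]
    rintro x (⟨y, rfl⟩ | ⟨y, rfl⟩)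
    · exact hb y
    · exact isAlgebraic_algebraMap (R := RS) (A := M) ⟨algebraMap L M y,
        Subalgebra.algebraMap_mem _ _⟩
  have : Algebra.IsAlgebraic RS M := ⟨fun x => by
    have : x ∈ CF := htop ▸ Subfield.mem_top x
    exact this⟩
  obtain ⟨t, hts, ht⟩ := exists_isTranscendenceBasis_subset (R := L) S
  rw [← ht.cardinalMk_eq_trdeg, ← hs.cardinalMk_eq_trdeg]
  exact (Cardinal.mk_le_mk_of_subset hts).trans Cardinal.mk_image_le

/-- A subfield whose inclusion is an epimorphism of rings is everything. -/
theorem surjective_algebraMap_of_isEpi {F M : Type u} [Field F] [Field M] [Algebra F M]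
    [Algebra.IsEpi F M] : Function.Surjective (algebraMap F M) := by
  intro m
  by_contra hm
  have h1 : m ∉ Submodule.span F ({1} : Set M) := by
    rw [Submodule.mem_span_singleton]
    rintro ⟨a, ha⟩
    exact hm ⟨a, by rw [Algebra.algebraMap_eq_smul_one, ha]⟩
  obtain ⟨ψ, hψm, hψ⟩ := Submodule.exists_dual_map_eq_bot_of_notMem h1 inferInstance
  have hψ1 : ψ 1 = 0 :=
    LinearMap.mem_ker.mp
      (LinearMap.le_ker_iff_map.mpr hψ (Submodule.mem_span_singleton_self _))
  obtain ⟨φ, hφ, -⟩ := Submodule.exists_dual_map_eq_bot_of_notMem (p := (⊥ : Submodule F M))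
    (x := 1) (by simp) inferInstance
  have := congrArg (TensorProduct.lift (LinearMap.compl₂ ((LinearMap.mul F F).comp φ) ψ))
    ((Algebra.isEpi_iff_forall_one_tmul_eq F M).mp inferInstance m)
  simp [hψ1] at this
  exact this.elim hφ hψm

/-- In a tensor product of fields there is a prime at which a given algebraically independent
family stays algebraically independent. -/
theorem exists_prime_algebraicIndependent {k K L R : Type u} [Field k] [Field K] [Field L]
    [CommRing R] [Algebra k K] [Algebra k L] (i : K →+* R) (j : L →+* R)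
    (σ : R →+* L ⊗[k] K) (hi : σ.comp i = (Algebra.TensorProduct.includeRight :
      K →ₐ[k] L ⊗[k] K).toRingHom)
    (hj : σ.comp j = Algebra.TensorProduct.includeLeftRingHom)
    {ι : Type u} (x : ι → K) (hx : AlgebraicIndependent k x) :
    ∃ p : Ideal R, p.IsPrime ∧
      ∀ P : MvPolynomial ι L, MvPolynomial.eval₂ j (i ∘ x) P ∈ p → P = 0 := by
  let ρ : MvPolynomial ι L →+* R := MvPolynomial.eval₂Hom j (i ∘ x)
  let e := MvPolynomial.algebraTensorAlgEquiv (σ := ι) k L
  let Φ : L ⊗[k] MvPolynomial ι k →ₐ[L] L ⊗[k] K :=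
    Algebra.TensorProduct.map (AlgHom.id L L) (MvPolynomial.aeval x)
  have hΦ : Function.Injective Φ := by
    have h2 := Module.Flat.lTensor_preserves_injective_linearMap (M := L)
      (MvPolynomial.aeval (R := k) x).toLinearMap hx
    intro a b hab
    exact h2 hab
  have hρ : ∀ P, σ (ρ P) = Φ (e.symm P) := by
    intro P
    have heq : σ.comp ρ = (Φ.comp e.symm.toAlgHom).toRingHom := by
      refine MvPolynomial.ringHom_ext (fun l => ?_) (fun n => ?_)
      · have := RingHom.congr_fun hj l
        simp [ρ, Φ, e] at this ⊢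
        simpa using this
      · have := RingHom.congr_fun hi (x n)
        simp [ρ, Φ, e] at this ⊢
        simpa using this
    exact RingHom.congr_fun heq P
  have hinj : ∀ P, ρ P = 0 → P = 0 := fun P hP => by
    refine e.symm.injective (hΦ ?_)
    rw [← hρ, hP, map_zero, map_zero, map_zero]
  let S : Submonoid R := (nonZeroDivisors (MvPolynomial ι L)).map ρ
  have hS : Disjoint ((⊥ : Ideal R) : Set R) (S : Set R) := by
    rw [Set.disjoint_left]
    rintro r hr ⟨P, hP, rfl⟩
    exact nonZeroDivisors.ne_zero hP (hinj P hr)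
  obtain ⟨p, hp, -, hpS⟩ := Ideal.exists_le_prime_disjoint ⊥ S hS
  refine ⟨p, hp, fun P hP => ?_⟩
  by_contra hP0
  exact Set.disjoint_left.mp hpS hP ⟨P, mem_nonZeroDivisors_of_ne_zero hP0, rfl⟩

end Groth.Agent.L28.DeltaFlat
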